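import Cfsg.Agent.H759.TwF.Main
import Cfsg.Agent.H301.SY.Base

/-!
# The elements of the tori of order `q² ± q √(2q) + q ± √(2q) + 1` of `²F₄(q)` have odd centralizers (helper759)
-/

set_option autoImplicit false
set_option linter.unusedSectionVars false

namespace Cfsg.Agent.H759.TwFSY

open CoxeterSystem Cfsg Cfsg.Lie Cfsg.Lie.ChevalleyDatum
open Cfsg.Agent.ChevalleyStructure Cfsg.Agent.ChevalleyStructure.Elts Cfsg.Agent.ChevalleyStructure.CoxeterGeom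
  Cfsg.Agent.ChevalleyStructure.CoxeterGeomTypes Cfsg.Agent.ChevalleyStructure.NPerm
  Cfsg.Agent.ChevalleyStructure.RootVec
open Cfsg.Agent.Tits.Roots Cfsg.Agent.Tits.Core Cfsg.Agent.Nodes Cfsg.Agent.Nodes.Reps Cfsg.Agent.Nodes.BNOf
  Cfsg.Agent.Nodes.RGDChev
open Cfsg.Agent.KFacts.RgdField Cfsg.Agent.KFacts.RgdChevCoord Cfsg.Agent.BpExc.TorCent Cfsg.Agent.BpExc.TorChev
open Cfsg.Agent.GpExc.Field Cfsg.Agent.BpExc.Tow Cfsg.Agent.BpExc.TowChev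
  Cfsg.Agent.BpExc.LangFr Cfsg.Agent.BpExc Cfsg.Agent.H129.TorusChar Cfsg.Agent.H129.TorusUntw
open Cfsg.Agent.H493.F4End Cfsg.Agent.H493.F4Tor Cfsg.Agent.H129.WData
open Cfsg.Agent.H630.NH Cfsg.Agent.H630.Exc Cfsg.Agent.H759.TwF

universe u v

/-- A prime divisor of the order of a torus of exponent `N`. -/
theorem prime_dvd {G : Type*} [Group G] [Finite G] {N ℓ : ℕ} (h : ∀ g : G, g ^ N = 1) (hℓ : ℓ.Prime)
    (hd : ℓ ∣ Nat.card G) : ℓ ∣ N := by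
  have : Fact ℓ.Prime := ⟨hℓ⟩
  obtain ⟨g, hg⟩ := exists_prime_orderOf_dvd_card' ℓ hd
  rw [← hg]
  exact orderOf_dvd_of_pow_eq_one (h g)

section Fin

variable {K : Type u} [Field K] [Fintype K] {m : ℕ} (hK : Fintype.card K = 2 ^ (2 * m + 1))

include hK

/-- The order of a subgroup of exponent `N` (`N` the order of a torus of rank 1). -/
theorem card_dvd {a : Fin 7} (ha1 : rk a = 1) (ha : a ≠ 1) (ha4 : a ≠ 4) {N : ℕ} (hN : pe (2 ^ m) (NN a) = (N : ℤ))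
    (T : Subgroup ↥(twistedF4 K (2 ^ m))) (hT : ∀ x ∈ T, x ^ N = 1) : Nat.card T ∣ N := by
  have h1 : ((Nat.card T : ℕ) : ℤ) ∣ (N : ℤ) * ((2 * (2 ^ m) ^ 2) ^ 12 *
      ∏ x ∈ Finset.univ.erase a, pe (2 ^ m) (NN x) ^ rk x) := by
    have h2 := Int.natCast_dvd_natCast.2 (Subgroup.card_subgroup_dvd_card T)
    rw [card_eq hK, ← Finset.mul_prod_erase Finset.univ _ (Finset.mem_univ a), ha1, pow_one, hN] at h2
    refine h2.trans (dvd_of_eq ?_)
    ring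
  have h2 : IsCoprime ((Nat.card T : ℕ) : ℤ) ((2 * (2 ^ m) ^ 2) ^ 12 *
      ∏ x ∈ Finset.univ.erase a, pe (2 ^ m) (NN x) ^ rk x) := by
    have h0 : (Nat.card T : ℤ) ≠ 0 := by exact_mod_cast Nat.card_pos.ne'
    rw [Int.isCoprime_iff_gcd_eq_one]
    by_contra hcon
    obtain ⟨ℓ, hℓ, hℓd⟩ := Nat.exists_prime_and_dvd hcon
    have hℓ' : Prime (ℓ : ℤ) := Nat.prime_iff_prime_int.1 hℓ
    have h3 : (ℓ : ℤ) ∣ (Nat.card T : ℤ) := (Int.natCast_dvd_natCast.2 hℓd).trans (Int.gcd_dvd_left _ _)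
    have h4 : (ℓ : ℤ) ∣ (2 * (2 ^ m) ^ 2) ^ 12 * ∏ x ∈ Finset.univ.erase a, pe (2 ^ m) (NN x) ^ rk x :=
      (Int.natCast_dvd_natCast.2 hℓd).trans (Int.gcd_dvd_right _ _)
    have h5 : ℓ ∣ N := prime_dvd (G := T) (fun g => Subtype.ext (hT g g.2)) hℓ (Int.natCast_dvd_natCast.1 h3)
    have h6 : (ℓ : ℤ) ∣ pe (2 ^ m) (NN a) := by rw [hN]; exact Int.natCast_dvd_natCast.2 h5
    have h7 : ℓ ≠ 2 := by
      rintro rfl
      exact odd_NN (2 ^ m) a h6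
    rcases hℓ'.dvd_or_dvd h4 with h | h
    · have h2 := hℓ'.dvd_of_dvd_pow h
      have h3 : (ℓ : ℤ) ∣ 2 := by
        rcases hℓ'.dvd_or_dvd h2 with h3 | h3
        · exact h3
        · exact hℓ'.dvd_of_dvd_pow (hℓ'.dvd_of_dvd_pow h3)
      exact h7 ((Nat.prime_dvd_prime_iff_eq hℓ Nat.prime_two).1 (Int.natCast_dvd_natCast.1 (by simpa using h3)))
    · obtain ⟨x, hx, hx'⟩ := (Prime.dvd_finsetProd_iff hℓ' _).1 h
      have h8 := eq_three hℓ h7 (Finset.ne_of_mem_erase hx) (hℓ'.dvd_of_dvd_pow hx') h6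
      rw [h8] at h6
      rcases (three_dvd_iff m a).1 (by exact_mod_cast h6) with h9 | h9
      · exact ha h9
      · exact ha4 h9
  exact Int.natCast_dvd_natCast.1 (h2.dvd_of_dvd_mul_right h1)

/-- **An element of order `r` with odd centralizer.** -/
theorem exists_odd {d : TD} (hd : OkT d) {a : Fin 7} (ha : NN a = d.N) (ha1 : rk a = 1) (han : a ≠ 1) (ha4 : a ≠ 4)
    (hme : d.me = 0) {c : Fin 4 → P} {U : Fin 4} {v : P} {κ E : ℕ} (hO : OkO d c U v κ E) {r : ℕ} (hr : r.Prime)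
    (hrN : (r : ℤ) ∣ pe (2 ^ m) (NN a)) :
    ∃ x : ↥(twistedF4 K (2 ^ m)), orderOf x = r ∧ ¬ 2 ∣ Nat.card (Subgroup.centralizer ({x} : Set _)) := by
  classical
  have : Fact (Nat.Prime 2) := ⟨Nat.prime_two⟩
  have hc2 : CharP K 2 := F4Fixed.charP_two hK
  obtain ⟨p, e, hpF, hpc, hpk, he, hpe, hk⟩ := exists_closure hK
  have hp2 : p = 2 := CharP.eq K hpc hc2
  subst hp2
  let k := AlgebraicClosure K
  let f : K →+* k := algebraMap K k
  let cs := CoxeterMatrix.F₄.toCoxeterSystem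
  have hW : Finite CoxeterMatrix.F₄.Group := H493.PGF4.finW
  have hN : NSys CoxeterMatrix.F₄ (TT chevF4 k) (nc hp k) := nsys_of_locFin hp cs hk 2
  obtain ⟨n, hn⟩ := exists_rp cs hN (TD.w cs d)
  obtain ⟨z, hz⟩ := H493.F4Lang.lang_ste m n
  have hpos := NN_pos m a
  have hodd := odd_NN (2 ^ m) a
  obtain ⟨N, hNe⟩ := Int.eq_ofNat_of_zero_le hpos.le
  have hNk : (N : k) ≠ 0 := odd_cast hNe
  have hcd := card_dvd (K := K) hK ha1 han ha4 hNe
  have hrN' : r ∣ N := by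
    rw [hNe] at hrN
    exact Int.natCast_dvd_natCast.1 hrN
  have hr2 : r ≠ 2 := by
    rintro rfl
    exact hodd (by rw [hNe]; exact Int.natCast_dvd_natCast.2 hrN')
  have hNodd : ¬ 2 ∣ N := fun h => hodd (by rw [hNe]; exact_mod_cast h)
  rw [ha] at hNe hodd
  have hN0 : N ≠ 0 := by rintro rfl; exact hNk Nat.cast_zero
  have : NeZero (N : k) := ⟨hNk⟩
  obtain ⟨ζ, hζ⟩ := HasEnoughRootsOfUnity.exists_primitiveRoot k N
  -- the generator
  have hL : ∀ x, (N : ℤ) ∣ Lc (2 ^ m) d.Q c (rep cs hp.isCartan (TD.w cs d) x) - Lc (2 ^ m) d.Q c (Tt (2 ^ m) x) :=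
    fun x => by rw [← hNe]; exact Lc_adapted cs hd.1 hd.2.1 _ c x
  have hU : IsCoprime (N : ℤ) (Lc (2 ^ m) d.Q c (sr U)) := by
    have h1 := pe_of_peq (2 ^ m) hO
    rw [pe_pa, pe_pm, pe_p4, pe_pmo] at h1
    rw [← hNe]
    refine coprime_pow (m := m) hodd (v := pe (2 ^ m) v) (k := κ) (E := E) ?_
    rw [Lc_apply, ← h1]
    simp only [Mh_sr, pe_pm]
  obtain ⟨g, hg, hgN, hgc⟩ := exists_el hK f hk cs hn hz hζ hN0 _ hL
  have hgo : orderOf g = N := by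
    refine Nat.dvd_antisymm (orderOf_dvd_of_pow_eq_one hgN) ?_
    have h2 := hgc (orderOf g : ℤ) (sr U)
    rw [zpow_natCast, pow_orderOf_eq_one, map_one, mul_one, inv_mul_cancel, cX_one] at h2
    have h3 := (hζ.zpow_eq_one_iff_dvd _).1 h2.symm
    exact Int.natCast_dvd_natCast.1 (hU.dvd_of_dvd_mul_right h3)
  -- the torus is cyclic
  have hexp : ∀ x ∈ tX chevF4 k (eF m f) z, x ^ N = 1 := by
    intro x hx
    have hcT : z⁻¹ * eF m f x * z ∈ TT chevF4 k := hx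
    have h1 := expo cs hd.1 hd.2.2.1 hNe.symm _ hcT ((tau_iff cs hk hn hcT).1 (tau hK f hz x))
    apply eq_one_of_conj (z := z) f
    have h2 : (z⁻¹ * eF m f x * z) ^ N = z⁻¹ * eF m f x ^ N * z := by
      have h3 := conj_pow (i := N) (a := z⁻¹) (b := eF m f x)
      rwa [inv_inv] at h3
    rw [map_pow, ← h2, h1]
  have hcard : Nat.card ↥(tX chevF4 k (eF m f) z) = N := by
    refine Nat.dvd_antisymm (hcd _ hexp) ?_
    have h2 := orderOf_dvd_natCard (⟨g, hg⟩ : ↥(tX chevF4 k (eF m f) z))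
    rwa [Subgroup.orderOf_mk, hgo] at h2
  have hcyc : IsCyclic ↥(tX chevF4 k (eF m f) z) :=
    isCyclic_of_orderOf_eq_card (⟨g, hg⟩ : ↥(tX chevF4 k (eF m f) z)) (by rw [Subgroup.orderOf_mk, hgo, hcard])
  -- the element of order `r`
  obtain ⟨M, hM⟩ := hrN'
  have hM0 : M ≠ 0 := by rintro rfl; exact hN0 hM
  have hxo : orderOf (g ^ M) = r := by
    rw [orderOf_pow_of_dvd hM0 (by rw [hgo, hM]; exact dvd_mul_left _ _), hgo, hM,
      Nat.mul_div_cancel _ (Nat.pos_of_ne_zero hM0)]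
  have hxT : g ^ M ∈ tX chevF4 k (eF m f) z := pow_mem hg M
  refine ⟨g ^ M, hxo, fun h2 => ?_⟩
  obtain ⟨y, hy⟩ := exists_prime_orderOf_dvd_card' 2 h2
  have hyo : orderOf (y : ↥(twistedF4 K (2 ^ m))) = 2 := by rw [Subgroup.orderOf_coe]; exact hy
  have hyc : g ^ M * (y : ↥(twistedF4 K (2 ^ m))) = y * g ^ M := Subgroup.mem_centralizer_iff.1 y.2 _ rfl
  have hcomm : ∀ x ∈ tXr hp (eF_injective (m := m) f) z r, x * (y : ↥(twistedF4 K (2 ^ m))) = y * x := by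
    intro x hx
    have hx1 : x ∈ tX chevF4 k (eF m f) z := hx.1
    have hx2 : x ^ r = 1 := hx.2
    have h1 : (⟨x, hx1⟩ : ↥(tX chevF4 k (eF m f) z)) ∈
        Subgroup.zpowers (⟨g ^ M, hxT⟩ : ↥(tX chevF4 k (eF m f) z)) :=
      H301.SY.cyc_mem (n := r) (Subtype.ext hx2) (by rw [Subgroup.orderOf_mk, hxo])
    obtain ⟨i, hi⟩ := Subgroup.mem_zpowers_iff.1 h1
    have h3 : (g ^ M) ^ i = x := by
      have := congrArg Subtype.val hi
      simpa using this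
    rw [← h3]
    exact (show Commute (g ^ M) (y : ↥(twistedF4 K (2 ^ m))) from hyc).zpow_left i
  have hroot := hroot (k := k) cs hd.1 hd.2.1 hd.2.2.2 hr hr2 (Or.inl hme) (by rw [← ha]; exact hrN)
  have hcT := mem_torus hK f hk cs hn hz hr Nat.prime_two hr2 hroot hyo hcomm
  have h1 := expo cs hd.1 hd.2.2.1 hNe.symm _ hcT ((tau_iff cs hk hn hcT).1 (tau hK f hz y))
  have h2 : (z⁻¹ * eF m f y * z) ^ 2 = 1 := by
    have h3 := conj_pow (i := 2) (a := z⁻¹) (b := eF m f y)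
    rw [inv_inv] at h3
    have h4 : (y : ↥(twistedF4 K (2 ^ m))) ^ 2 = 1 := orderOf_dvd_iff_pow_eq_one.1 (dvd_of_eq hyo)
    rw [h3, ← map_pow, h4, map_one, mul_one, inv_mul_cancel]
  have h3 : orderOf (z⁻¹ * eF m f y * z) ∣ 1 := by
    have h4 := Nat.dvd_gcd (orderOf_dvd_of_pow_eq_one h2) (orderOf_dvd_of_pow_eq_one h1)
    rwa [((Nat.Prime.coprime_iff_not_dvd Nat.prime_two).2 hNodd).gcd_eq_one] at h4
  have h4 : z⁻¹ * eF m f y * z = 1 := orderOf_eq_one_iff.1 (Nat.dvd_one.1 h3)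
  have h5 := eq_one_of_conj f h4
  rw [h5, orderOf_one] at hyo
  exact absurd hyo (by norm_num)

/-- **The prime divisors of `q² ± q √(2q) + q ± √(2q) + 1`.** -/
theorem exists_odd_of_dvd {a : Fin 7} (ha : a = 5 ∨ a = 6) {r : ℕ} (hr : r.Prime)
    (hrN : (r : ℤ) ∣ pe (2 ^ m) (NN a)) :
    ∃ x : ↥(twistedF4 K (2 ^ m)), orderOf x = r ∧ ¬ 2 ∣ Nat.card (Subgroup.centralizer ({x} : Set _)) := by
  rcases ha with rfl | rfl
  · exact exists_odd hK okT_Ep (a := 5) rfl (by decide) (by decide) (by decide) rfl okO_Ep hr hrN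
  · exact exists_odd hK okT_Em (a := 6) rfl (by decide) (by decide) (by decide) rfl okO_Em hr hrN

end Fin

end Cfsg.Agent.H759.TwFSY
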