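import Cfsg.Agent.H759.TwFSY.Row
import Cfsg.Agent.H301.SY.Tools

/-!
# The row `²F₄(q)` of S3846 (helper759, for helper301)

* `m0_of_rep'` : `M0 x` from a faithful representation of degree `d`, `d + 1 < p`, in characteristic `r ≠ p`;
* `crow_ree2f4` : the row.
-/

set_option autoImplicit false
set_option linter.unusedSectionVars false

namespace Cfsg.Agent.H759.TwFSY

open Cfsg Cfsg.Lie Cfsg.Lie.ChevalleyDatum Cfsg.Agent.H759.TwF Cfsg.Agent.H301.SY Cfsg.Agent.H459.Rad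
  Cfsg.Agent.H459.Iface

/-- `M0 x` from a representation. -/
theorem m0_of_rep' (hh : HH) {k V G : Type} [Field k] [AddCommGroup V] [Module k V] [FiniteDimensional k V] [Group G]
    [Finite G] (ρ : Representation k G V) (hρ : Function.Injective ρ) {p r : ℕ} [hp : Fact p.Prime]
    [hr : Fact r.Prime] [CharP k r] (hrp : r ≠ p) (hd : Module.finrank k V + 1 < p)
    (hP : ∀ P : Sylow p G, IsCyclic (P : Subgroup G)) {x : G} (hx : orderOf x = p)
    (hF : ¬ FixR r (MulAut.conj x)) : M0 x := by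
  have hne : ∀ t : ℕ, t.Prime → t ≠ r → (t : k) ≠ 0 := by
    intro t ht htr h
    rw [CharP.cast_eq_zero_iff k r] at h
    exact htr ((Nat.prime_dvd_prime_iff_eq hr.out ht).1 h).symm
  refine M0.of_triv hP hx fun t ht htp R hR hxR => ?_
  by_cases htr : t = r
  · subst htr
    have hR0 : R = ⊥ := by
      by_contra h
      exact hF ⟨R, h, hR, hxR⟩
    intro a ha
    rw [hR0, Subgroup.mem_bot] at ha
    rw [ha, mul_one, one_mul]
  · exact hh k V G ρ hρ p t hp.out ht (Ne.symm htp) (hne p hp.out (Ne.symm hrp)) (hne t ht htr) hd R hR x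
      ⟨1, by rw [hx, pow_one]⟩ hxR

theorem m0Rep (hh : HH) : M0Rep := by
  intro k V G _ _ _ _ _ _ ρ hρ p r _ _ _ hrp hd hP x hx hF
  exact m0_of_rep' hh ρ hρ hrp hd hP hx hF

/-- **The row `²F₄(q)`.** -/
theorem crow_ree2f4 (hh : Cfsg.Agent.H301.SY.HH) {K : Type*} [Group K] [Finite K] [IsSimpleGroup K] {p : ℕ}
    [Fact p.Prime] (h : Cfsg.Lie.Iso2F4 K) (hp : 5 ≤ p) : Cfsg.Agent.H301.SY.CRow 2 p K :=
  crow_of_m0 (m0Rep hh) h hp

end Cfsg.Agent.H759.TwFSY
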