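import Cfsg.Agent.H759.TwFSY.Cent

/-!
# The row `²F₄(q)` of S3846 (helper759, for helper301)

* `zc_tw` : `Zc 2 p K` for `p < 157`;
* `rep52` : the faithful representation of degree 52.
-/

set_option autoImplicit false
set_option linter.unusedSectionVars false

namespace Cfsg.Agent.H759.TwFSY

open Cfsg Cfsg.Lie Cfsg.Lie.ChevalleyDatum Cfsg.Agent.H759.TwF Cfsg.Agent.H301.SY Cfsg.Agent.H459.Rad
  Cfsg.Agent.H459.Iface

universe u

/-! ### numbers -/

theorem mul_NN (m : ℕ) : pe (2 ^ m) (NN 5) * pe (2 ^ m) (NN 6) =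
    ((2 ^ (2 * m + 1) : ℕ) : ℤ) ^ 4 - ((2 ^ (2 * m + 1) : ℕ) : ℤ) ^ 2 + 1 := by
  have hb : ((2 ^ (2 * m + 1) : ℕ) : ℤ) = 2 * (2 ^ m) ^ 2 := by push_cast; rw [← pow_mul]; ring
  rw [hb]
  generalize ((2 : ℤ) ^ m) = b
  simp [NN, tdEp, tdEm, pe]
  ring

theorem one_lt_NN {m : ℕ} (hm : 1 ≤ m) : 1 < pe (2 ^ m) (NN 5) ∧ 1 < pe (2 ^ m) (NN 6) := by
  have hb : (2 : ℤ) ≤ 2 ^ m := by
    calc (2 : ℤ) = 2 ^ 1 := by norm_num
      _ ≤ 2 ^ m := pow_le_pow_right₀ (by norm_num) hm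
  generalize (2 : ℤ) ^ m = b at *
  have h1 : 0 < b * (b - 1) := mul_pos (by omega) (by omega)
  have h3 : 0 < b ^ 3 * (b - 1) := mul_pos (by positivity) (by omega)
  constructor <;> simp [NN, tdEp, tdEm, pe] <;> nlinarith

theorem ord_twelve {q s : ℕ} (hs : s.Prime) (h2 : s ≠ 2) (h3 : s ≠ 3)
    (h : (s : ℤ) ∣ (q : ℤ) ^ 4 - (q : ℤ) ^ 2 + 1) : orderOf (q : ZMod s) = 12 := by
  have := Fact.mk hs
  have h1 : ((q : ZMod s)) ^ 4 - (q : ZMod s) ^ 2 + 1 = 0 := by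
    have h1 : ((((q : ℤ) ^ 4 - (q : ℤ) ^ 2 + 1 : ℤ)) : ZMod s) = 0 :=
      (ZMod.intCast_zmod_eq_zero_iff_dvd _ _).2 (by exact_mod_cast h)
    push_cast at h1
    exact h1
  have h6 : (q : ZMod s) ^ 6 = -1 := by linear_combination ((q : ZMod s) ^ 2 + 1) * h1
  have h12 : (q : ZMod s) ^ 12 = 1 := by
    rw [show 12 = 6 * 2 by norm_num, pow_mul, h6]; ring
  have hd : orderOf (q : ZMod s) ∣ 12 := orderOf_dvd_of_pow_eq_one h12
  have hz : ∀ n : ℕ, ((n : ℕ) : ZMod s) = 0 → n.Prime → s = n := by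
    intro n h4 hn
    rw [ZMod.natCast_eq_zero_iff] at h4
    exact (Nat.prime_dvd_prime_iff_eq hs hn).1 h4
  have hn6 : ¬ orderOf (q : ZMod s) ∣ 6 := by
    intro h4
    have h5 := orderOf_dvd_iff_pow_eq_one.1 h4
    rw [h6] at h5
    exact h2 (hz 2 (by push_cast; linear_combination -h5) Nat.prime_two)
  have hn4 : ¬ orderOf (q : ZMod s) ∣ 4 := by
    intro h4
    have h5 := orderOf_dvd_iff_pow_eq_one.1 h4
    rw [h5] at h1
    have h7 : (q : ZMod s) ^ 2 = 2 := by linear_combination -h1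
    have h8 : (q : ZMod s) ^ 4 = 4 := by
      rw [show 4 = 2 * 2 by norm_num, pow_mul, h7]; ring
    rw [h5] at h8
    exact h3 (hz 3 (by push_cast; linear_combination -h8) Nat.prime_three)
  have hmem : orderOf (q : ZMod s) ∈ Nat.divisors 12 := Nat.mem_divisors.2 ⟨hd, by norm_num⟩
  rw [show Nat.divisors 12 = {1, 2, 3, 4, 6, 12} by decide] at hmem
  simp only [Finset.mem_insert, Finset.mem_singleton] at hmem
  rcases hmem with h | h | h | h | h | h
  · exact absurd (by rw [h]; norm_num) hn6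
  · exact absurd (by rw [h]; norm_num) hn6
  · exact absurd (by rw [h]; norm_num) hn6
  · exact absurd (by rw [h]) hn4
  · exact absurd (by rw [h]) hn6
  · exact h

/-- The prime divisors of `q⁴ - q² + 1` are 1 modulo 12. -/
theorem mod_twelve {m : ℕ} {a : Fin 7} (ha : a = 5 ∨ a = 6) {r : ℕ} (hr : r.Prime)
    (hrN : (r : ℤ) ∣ pe (2 ^ m) (NN a)) : 12 ∣ r - 1 := by
  have h2 : r ≠ 2 := by
    rintro rfl
    exact odd_NN (2 ^ m) a hrN
  have h3 : r ≠ 3 := by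
    rintro rfl
    rcases (three_dvd_iff m a).1 hrN with h | h <;> rcases ha with rfl | rfl <;> exact absurd h (by decide)
  have h1 : (r : ℤ) ∣ ((2 ^ (2 * m + 1) : ℕ) : ℤ) ^ 4 - ((2 ^ (2 * m + 1) : ℕ) : ℤ) ^ 2 + 1 := by
    rw [← mul_NN]
    rcases ha with rfl | rfl
    · exact hrN.mul_right _
    · exact hrN.mul_left _
  have h4 := ord_twelve hr h2 h3 h1
  have : Fact r.Prime := ⟨hr⟩
  rw [← h4]
  refine ZMod.orderOf_dvd_card_sub_one ?_
  intro h5
  rw [ZMod.natCast_eq_zero_iff] at h5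
  exact h2 ((Nat.prime_dvd_prime_iff_eq hr Nat.prime_two).1 (hr.dvd_of_dvd_pow h5))

theorem exists_prime (m : ℕ) (hm : 1 ≤ m) {p s : ℕ} (hp : p.Prime) (hp1 : p < 157) (hs : s.Prime) (hs2 : s ≠ 2)
    (hsp : s ∣ p - 1) :
    ∃ a : Fin 7, (a = 5 ∨ a = 6) ∧ ∃ r : ℕ, r.Prime ∧ (r : ℤ) ∣ pe (2 ^ m) (NN a) ∧ r ≠ p ∧ r ≠ s := by
  obtain ⟨h5, h6⟩ := one_lt_NN hm
  have key : ∀ a : Fin 7, 1 < pe (2 ^ m) (NN a) → ∃ r : ℕ, r.Prime ∧ (r : ℤ) ∣ pe (2 ^ m) (NN a) := by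
    intro a ha
    obtain ⟨N, hN⟩ := Int.eq_ofNat_of_zero_le (NN_pos m a).le
    obtain ⟨r, hr, hrN⟩ := Nat.exists_prime_and_dvd (n := N) (by rintro rfl; rw [hN] at ha; norm_num at ha)
    exact ⟨r, hr, by rw [hN]; exact Int.natCast_dvd_natCast.2 hrN⟩
  obtain ⟨r, hr, hrN⟩ := key 5 h5
  obtain ⟨r', hr', hrN'⟩ := key 6 h6
  have hne : r ≠ r' := by
    rintro rfl
    have h2 : r ≠ 2 := by
      rintro rfl
      exact odd_NN (2 ^ m) 5 hrN
    have h3 := eq_three hr h2 (i := 5) (j := 6) (by decide) hrN hrN'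
    subst h3
    rcases (three_dvd_iff m 5).1 hrN with h | h <;> exact absurd h (by decide)
  by_cases h1 : r ≠ p ∧ r ≠ s
  · exact ⟨5, Or.inl rfl, r, hr, hrN, h1.1, h1.2⟩
  by_cases h2 : r' ≠ p ∧ r' ≠ s
  · exact ⟨6, Or.inr rfl, r', hr', hrN', h2.1, h2.2⟩
  exfalso
  have e1 := mod_twelve (Or.inl rfl) hr hrN
  have e2 := mod_twelve (Or.inr rfl) hr' hrN'
  have h3 : 12 ∣ p - 1 ∧ 12 ∣ s - 1 := by
    have h4 : r = p ∨ r = s := by tauto
    have h5 : r' = p ∨ r' = s := by tauto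
    rcases h4 with rfl | rfl <;> rcases h5 with rfl | rfl
    · exact absurd rfl hne
    · exact ⟨e1, e2⟩
    · exact ⟨e2, e1⟩
    · exact absurd rfl hne
  obtain ⟨⟨i, hi⟩, ⟨j, hj⟩⟩ := h3
  have hs1 := hs.one_lt
  have hp1' := hp.one_lt
  have hi0 : i ≠ 0 := by rintro rfl; omega
  have hj0 : j ≠ 0 := by rintro rfl; omega
  have hcop : Nat.Coprime s 12 := by
    have : s = 12 * j + 1 := by omega
    rw [this]
    simp
  rw [hi] at hsp
  have h7 := hcop.dvd_of_dvd_mul_left hsp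
  have h8 := Nat.le_of_dvd (Nat.pos_of_ne_zero hi0) h7
  omega

section Fin

variable {K : Type u} [Field K] [Fintype K] {m : ℕ} (hm : 1 ≤ m) (hK : Fintype.card K = 2 ^ (2 * m + 1))

include hm hK

theorem zc_tw {p : ℕ} (hp : p.Prime) (hp1 : p < 157) : Zc 2 p ↥(twistedF4 K (2 ^ m)) := by
  intro s hs hsp hs2
  obtain ⟨a, ha, r, hr, hrN, hrp, hrs⟩ := exists_prime m hm hp hp1 hs hs2 hsp
  obtain ⟨x, hx, hx2⟩ := exists_odd_of_dvd hK ha hr hrN
  refine ⟨x, ?_, hx2, ?_⟩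
  · rintro rfl
    rw [orderOf_one] at hx
    exact hr.one_lt.ne hx
  · rw [hx]
    exact Nat.Coprime.mul_right ((Nat.coprime_primes hr hp).2 hrp) ((Nat.coprime_primes hr hs).2 hrs)

end Fin

/-! ### the representation -/

theorem card_idx : Fintype.card chevF4.Idx = 52 := by
  decide

section Rep

variable (K : Type) [Field K] (e : ℕ)

/-- the representation of degree 52 -/
noncomputable def rep52 : Representation K ↥(twistedF4 K e) (chevF4.Idx → K) :=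
  ((Matrix.toLinAlgEquiv' (R := K) (n := chevF4.Idx)).toAlgHom : _ →* _).comp
    ((Units.coeHom (Matrix chevF4.Idx chevF4.Idx K)).comp (Subgroup.subtype (twistedF4 K e)))

theorem rep52_injective : Function.Injective (rep52 K e) := by
  intro a b h
  have h1 : (Matrix.toLinAlgEquiv' (R := K) (n := chevF4.Idx)) ((a : GL chevF4.Idx K) : Matrix _ _ K) =
    (Matrix.toLinAlgEquiv' (R := K) (n := chevF4.Idx)) ((b : GL chevF4.Idx K) : Matrix _ _ K) := h
  exact Subtype.ext (Units.ext (AlgEquiv.injective _ h1))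

theorem finrank52 : Module.finrank K (chevF4.Idx → K) = 52 := by
  rw [Module.finrank_fintype_fun_eq_card, card_idx]

end Rep

/-- the tool of helper301 -/
def M0Rep : Prop :=
  ∀ (k V G : Type) [Field k] [AddCommGroup V] [Module k V] [FiniteDimensional k V] [Group G] [Finite G]
    (ρ : Representation k G V), Function.Injective ρ → ∀ (p r : ℕ) [Fact p.Prime] [Fact r.Prime] [CharP k r], r ≠ p →
      Module.finrank k V + 1 < p → (∀ P : Sylow p G, IsCyclic (P : Subgroup G)) → ∀ x : G, orderOf x = p →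
        ¬ FixR r (MulAut.conj x) → M0 x

theorem crow_of_m0 (h0 : M0Rep) {K : Type*} [Group K] [Finite K] {p : ℕ} [hp : Fact p.Prime]
    (h : Cfsg.Lie.Iso2F4 K) (h5 : 5 ≤ p) : CRow 2 p K := by
  obtain ⟨F, _, _, m, hm, hK, ⟨e⟩⟩ := h
  have hfin : Finite ↥(twistedF4 F (2 ^ m)) := Finite.of_equiv K e.toEquiv
  refine CRow.congr e ?_
  intro x hx _ hP
  by_cases hfix : FixR 2 (MulAut.conj x)
  · exact Or.inl hfix
  by_cases hp1 : p < 157
  · exact Or.inr (Or.inr (zc_tw hm hK hp.out hp1))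
  · have : Fact (Nat.Prime 2) := ⟨Nat.prime_two⟩
    have : CharP F 2 := Cfsg.Agent.ChevalleyStructure.F4Fixed.charP_two hK
    exact Or.inr (Or.inl (h0 F (chevF4.Idx → F) _ (rep52 F (2 ^ m)) (rep52_injective F (2 ^ m)) p 2 (by omega)
      (by rw [finrank52]; omega) hP x hx hfix))

end Cfsg.Agent.H759.TwFSY
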